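import Groth.Agent.LieCartan.Rel
import Mathlib.RingTheory.Etale.Pi
import Mathlib.RingTheory.Finiteness.Nilpotent
import Mathlib.RingTheory.Smooth.Flat

/-!
# Regular elements in relative Cartan subalgebras; local existence of Cartan subalgebras
-/

universe u

open scoped TensorProduct

namespace LieCartan

open LieAlgebra Module LieSubalgebra SGA3t2b

attribute [local instance 100] LieRing.ofAssociativeRing

local notation "κ[" p "]" => Ideal.ResidueField (PrimeSpectrum.asIdeal p)

section Field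

variable {K : Type*} [Field K] [Infinite K] {V : Type*} [LieRing V] [LieAlgebra K V]
  [Module.Finite K V]

/-- A nilpotent self-normalizing subalgebra over an infinite field is an Engel subalgebra. -/
lemma exists_engel_eq (U : LieSubalgebra K V) (hnil : LieRing.IsNilpotent U)
    (hnorm : ∀ x, (∀ y ∈ U, ⁅x, y⁆ ∈ U) → x ∈ U) : ∃ x ∈ U, engel K x = U := by
  classical
  have hU : ∀ u ∈ U, U ≤ engel K u := by
    intro u hu y hy
    haveI := hnil
    obtain ⟨n, hn⟩ := LieModule.isNilpotent_toEnd_of_isNilpotent K U U ⟨u, hu⟩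
    rw [mem_engel_iff]
    refine ⟨n, ?_⟩
    have := map_ad_pow U.incl ⟨u, hu⟩ ⟨y, hy⟩ n
    rw [show ad K U ⟨u, hu⟩ ^ n = 0 from hn] at this
    simpa using this.symm
  have hex : ∃ d, ∃ x ∈ U, finrank K (engel K x) = d := ⟨_, 0, U.zero_mem, rfl⟩
  obtain ⟨x, hxU, hx⟩ := Nat.find_spec hex
  refine ⟨x, hxU, le_antisymm ?_ (hU x hxU)⟩
  have hbot : ∀ y ∈ U, engel K x ≤ engel K y := by
    intro y hy
    set Ex : {engel K z | z ∈ U} := ⟨engel K x, x, hxU, rfl⟩
    suffices IsBot Ex from @this ⟨engel K y, y, hy, rfl⟩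
    apply LieAlgebra.engel_isBot_of_isMin
      (Cardinal.natCast_le_aleph0.trans <| Cardinal.infinite_iff.mp ‹Infinite K›) U Ex (hU x hxU)
    rintro ⟨_, z, hz, rfl⟩ hzx
    suffices finrank K (engel K x) ≤ finrank K (engel K z) by
      suffices engel K z = engel K x from this.ge
      apply LieSubalgebra.toSubmodule_injective
      exact Submodule.eq_of_le_of_finrank_le hzx this
    rw [hx]
    exact Nat.find_min' hex ⟨z, hz, rfl⟩
  let E : LieSubmodule K U V :=
    { engel K x with
      lie_mem := by rintro ⟨u, hu⟩ y hy; exact (engel K x).lie_mem (hU x hxU hu) hy }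
  have hE : LieModule.IsNilpotent U E := by
    rw [LieModule.isNilpotent_iff_forall (R := K)]
    intro u
    rw [Module.End.isNilpotent_iff_of_finite]
    intro z
    obtain ⟨n, hn⟩ := (mem_engel_iff K (u : V) z).mp (hbot u u.2 z.2)
    refine ⟨n, Subtype.ext ?_⟩
    rw [LieSubmodule.coe_zero, ← hn]
    clear hn
    induction n with
    | zero => rfl
    | succ n ih =>
      simp only [pow_succ', Module.End.mul_apply, ← ih]
      rfl
  obtain ⟨k, hk⟩ := LieModule.IsNilpotent.nilpotent K U E
  have key : ∀ j i, i + j = k → ∀ z ∈ LieModule.lowerCentralSeries K U E i, (z : V) ∈ U := by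
    intro j
    induction j with
    | zero =>
      intro i hi z hz
      rw [add_zero] at hi
      rw [hi, hk, LieSubmodule.mem_bot] at hz
      rw [hz]
      exact U.zero_mem
    | succ j ih =>
      intro i hi z hz
      refine hnorm _ fun y hy => ?_
      have h1 : ⁅(⟨y, hy⟩ : U), z⁆ ∈ LieModule.lowerCentralSeries K U E (i + 1) := by
        rw [LieModule.lowerCentralSeries_succ]
        exact LieSubmodule.lie_mem_lie (LieSubmodule.mem_top _) hz
      have h2 : ⁅y, (z : V)⁆ ∈ U := ih (i + 1) (by omega) _ h1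
      rw [← lie_skew]
      exact U.neg_mem h2
  intro z hz
  exact key k 0 (zero_add k) ⟨z, hz⟩ (by simp)

end Field

variable {A : Type u} [CommRing A] {L : Type u} [LieRing L] [LieAlgebra A L] [Module.Finite A L]
  [Module.Projective A L]

omit [Module.Projective A L] in
/-- Over a point with infinite residue field a relative Cartan subalgebra has an element which is
regular in the fibre. -/
lemma exists_mem_isRegular (H : LieSubalgebra A L) (hH : IsCartanRel H) (p : PrimeSpectrum A)
    [Infinite κ[p]] : ∃ a ∈ H, LieAlgebra.IsRegular κ[p] ((1 : κ[p]) ⊗ₜ[A] a) := by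
  haveI := (hH.2 p).1
  let ι : κ[p] ⊗[A] H →ₗ⁅κ[p]⁆ κ[p] ⊗[A] L :=
    { H.toSubmodule.subtype.baseChange κ[p] with
      map_lie' := fun {x y} =>
        (LieAlgebra.ExtendScalars.map (AlgHom.id A κ[p]) H.incl).map_lie x y }
  have hU : ∀ x, x ∈ ι.range ↔ x ∈ fibreSubmodule p H := fun x => by
    rw [fibreSubmodule, ← range_baseChange_subtype]
    rfl
  obtain ⟨x, hxU, hx⟩ := exists_engel_eq ι.range ι.isNilpotent_range fun x hx =>
    (hU x).mpr ((hH.2 p).2.1 x fun y hy => (hU _).mp (hx y ((hU y).mpr hy)))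
  obtain ⟨y, rfl⟩ := hxU
  have hreg : LieAlgebra.IsRegular κ[p] (ι y) := by
    rw [LieAlgebra.isRegular_iff_finrank_engel_eq_rank]
    change finrank κ[p] (engel κ[p] (ι y)).toSubmodule = _
    have hx' : engel κ[p] (ι y) = ι.range := hx
    rw [hx', ← (hH.2 p).2.2, show ι.range.toSubmodule = fibreSubmodule p H from
      Submodule.ext hU]
  obtain ⟨s, hs, h, hh⟩ := exists_smul_eq_tmul p y
  refine ⟨h, h.2, ?_⟩
  have h1 : (1 : κ[p]) ⊗ₜ[A] (h : L) = algebraMap A κ[p] s • ι y := by
    rw [← map_smul, hh]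
    rfl
  rw [h1, isRegular_smul_iff (by rwa [Ne, Ideal.algebraMap_residueField_eq_zero])]
  exact hreg

omit [Module.Projective A L] in
/-- Quasi-regularity after base change. -/
lemma isQuasiRegular_baseChange (B : Type u) [CommRing B] [Algebra A B] (a : L)
    (h : ∀ q : PrimeSpectrum B, LieAlgebra.IsRegular κ[PrimeSpectrum.comap (algebraMap A B) q]
      ((1 : κ[PrimeSpectrum.comap (algebraMap A B) q]) ⊗ₜ[A] a)) :
    IsQuasiRegular B (B ⊗[A] L) ((1 : B) ⊗ₜ[A] a) := fun q =>
  (isRegular_fibre_baseChange q a).mpr (h q)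

/-- An element regular on a basic open neighbourhood of a point with a regular element. -/
lemma exists_regular_near
    (hC0 : ∀ p : PrimeSpectrum A, ∃ f : A, f ∉ p.asIdeal ∧ ∀ q : PrimeSpectrum A, f ∉ q.asIdeal →
        fibreRank A L q = fibreRank A L p)
    (p : PrimeSpectrum A) (hp : ∃ x : κ[p] ⊗[A] L, LieAlgebra.IsRegular κ[p] x) :
    ∃ f : A, f ∉ p.asIdeal ∧ ∃ a : L, ∀ q : PrimeSpectrum A, f ∉ q.asIdeal →
      LieAlgebra.IsRegular κ[q] ((1 : κ[q]) ⊗ₜ[A] a) := by
  obtain ⟨x, hx⟩ := hp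
  obtain ⟨s, hs, a, ha⟩ := exists_smul_eq_tmul p x
  have hreg : LieAlgebra.IsRegular κ[p] ((1 : κ[p]) ⊗ₜ[A] a) := by
    rw [← ha, isRegular_smul_iff (by rwa [Ne, Ideal.algebraMap_residueField_eq_zero])]
    exact hx
  obtain ⟨_, ⟨f, rfl⟩, hpf, hf⟩ :=
    PrimeSpectrum.isTopologicalBasis_basic_opens.exists_subset_of_mem_open
      (show p ∈ {q : PrimeSpectrum A | LieAlgebra.IsRegular κ[q] ((1 : κ[q]) ⊗ₜ[A] a)} from hreg)
      (isOpen_regularLocus hC0 a)
  exact ⟨f, hpf, a, fun q hq => hf hq⟩

omit [Module.Projective A L] in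
lemma comap_away_notMem (f : A) (q : PrimeSpectrum (Localization.Away f)) :
    f ∉ (PrimeSpectrum.comap (algebraMap A (Localization.Away f)) q).asIdeal := by
  intro h
  exact q.isPrime.ne_top (Ideal.eq_top_of_isUnit_mem _ h
    (IsLocalization.Away.algebraMap_isUnit f))

/-- A quasi-regular element over a faithfully flat étale covering. -/
lemma exists_quasiRegular_etale
    (hC0 : ∀ p : PrimeSpectrum A, ∃ f : A, f ∉ p.asIdeal ∧ ∀ q : PrimeSpectrum A, f ∉ q.asIdeal →
        fibreRank A L q = fibreRank A L p)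
    (hreg : ∀ p : PrimeSpectrum A, ∃ x : κ[p] ⊗[A] L, LieAlgebra.IsRegular κ[p] x) :
    ∃ (B : Type u) (_ : CommRing B) (_ : Algebra A B), Algebra.Etale A B ∧
      Module.FaithfullyFlat A B ∧ ∃ b : B ⊗[A] L, IsQuasiRegular B (B ⊗[A] L) b := by
  classical
  choose f hf a ha using fun p => exists_regular_near hC0 p (hreg p)
  have hcov : (Set.univ : Set (PrimeSpectrum A)) ⊆
      ⋃ p, (PrimeSpectrum.basicOpen (f p) : Set (PrimeSpectrum A)) :=
    fun p _ => Set.mem_iUnion.mpr ⟨p, hf p⟩
  obtain ⟨t, ht⟩ := isCompact_univ.elim_finite_subcover _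
    (fun p => (PrimeSpectrum.basicOpen (f p)).isOpen) hcov
  let B := Π i : t, Localization.Away (f i)
  refine ⟨B, inferInstance, inferInstance, inferInstance, ?_,
    ∑ i : t, (Pi.single i 1 : B) ⊗ₜ[A] a i, fun q => ?_⟩
  · refine Module.FaithfullyFlat.of_comap_surjective fun p => ?_
    obtain ⟨i, hi, hpi⟩ : ∃ i ∈ t, p ∈ (PrimeSpectrum.basicOpen (f i) : Set _) := by
      simpa using ht (Set.mem_univ p)
    obtain ⟨q, rfl⟩ : p ∈ Set.range
        (PrimeSpectrum.comap (algebraMap A (Localization.Away (f i)))) := by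
      rw [PrimeSpectrum.localization_away_comap_range (Localization.Away (f i)) (f i)]
      exact hpi
    refine ⟨PrimeSpectrum.comap (Pi.evalRingHom _ (⟨i, hi⟩ : t)) q, ?_⟩
    ext x
    rfl
  · obtain ⟨i, hi⟩ : ∃ i, (Pi.single i 1 : B) ∉ q.asIdeal := by
      by_contra h
      simp only [not_exists, not_not] at h
      apply q.isPrime.ne_top
      rw [Ideal.eq_top_iff_one, ← Finset.univ_sum_single (1 : B)]
      exact Ideal.sum_mem _ fun i _ => h i
    have hne : ∀ j, j ≠ i → (Pi.single j 1 : B) ∈ q.asIdeal := fun j hj =>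
      (q.isPrime.mem_or_mem (show (Pi.single j 1 : B) * Pi.single i 1 ∈ q.asIdeal by
        rw [← Pi.single_mul_left, Pi.single_eq_of_ne hj, mul_zero, Pi.single_zero]
        exact q.asIdeal.zero_mem)).resolve_right hi
    have hone : algebraMap B κ[q] (Pi.single i 1) = 1 := by
      have hid : (Pi.single i 1 : B) * (Pi.single i 1 - 1) = 0 := by
        rw [mul_sub, ← Pi.single_mul, mul_one, mul_one, sub_self]
      have := (q.isPrime.mem_or_mem (hid ▸ q.asIdeal.zero_mem :
        (Pi.single i 1 : B) * (Pi.single i 1 - 1) ∈ q.asIdeal)).resolve_left hi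
      rwa [← Ideal.algebraMap_residueField_eq_zero, map_sub, map_one, sub_eq_zero] at this
    have heq : (1 : κ[q]) ⊗ₜ[B] (∑ j : t, (Pi.single j 1 : B) ⊗ₜ[A] a j) =
        (1 : κ[q]) ⊗ₜ[B] ((1 : B) ⊗ₜ[A] a i) := by
      apply (TensorProduct.AlgebraTensorModule.cancelBaseChange A B κ[q] κ[q] L).injective
      rw [TensorProduct.tmul_sum, map_sum]
      rw [Finset.sum_eq_single i]
      · simp [Algebra.smul_def, hone]
      · intro j _ hj
        rw [TensorProduct.AlgebraTensorModule.cancelBaseChange_tmul, Algebra.smul_def,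
          (Ideal.algebraMap_residueField_eq_zero).mpr (hne j hj), zero_mul, TensorProduct.zero_tmul]
      · simp
    rw [heq]
    refine (isRegular_fibre_baseChange q (a i)).mpr (ha i _ fun hmem => hi ?_)
    have : (Pi.single i 1 : B) =
        algebraMap A B (f i) * Pi.single i (IsLocalization.Away.invSelf (f i)) := by
      rw [← Pi.single_mul_right]
      congr 1
      exact (IsLocalization.Away.mul_invSelf (S := Localization.Away (f i)) (f i)).symm
    rw [this]
    exact q.asIdeal.mul_mem_right _ hmem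

end LieCartan
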