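import Mathlib.LinearAlgebra.Charpoly.BaseChange
import Mathlib.LinearAlgebra.Eigenspace.Zero
import Mathlib.RingTheory.LocalRing.ResidueField.Ideal
import Mathlib.RingTheory.Spectrum.Prime.Basic
import Mathlib.RingTheory.Flat.Basic
import Mathlib.RingTheory.Polynomial.Nilpotent
import Mathlib.Algebra.Module.Projective
import Mathlib.LinearAlgebra.TensorProduct.RightExactness
import Mathlib.RingTheory.Finiteness.Projective

/-!
# Endomorphisms of projective modules via their fibres
-/

universe u v

open scoped TensorProduct

namespace LieCartan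

variable {A : Type u} [CommRing A]

local notation "κ[" p "]" => Ideal.ResidueField (PrimeSpectrum.asIdeal p)

section Lift

variable {M : Type v} [AddCommGroup M] [Module A M]

/-- Every element of a fibre becomes an image of an element of the module after multiplication by an
element not in the prime. -/
lemma exists_smul_eq_tmul (p : PrimeSpectrum A) (x : κ[p] ⊗[A] M) :
    ∃ s ∉ p.asIdeal, ∃ m : M, algebraMap A κ[p] s • x = 1 ⊗ₜ m := by
  induction x using TensorProduct.induction_on with
  | zero => exact ⟨1, p.asIdeal.primeCompl.one_mem, 0, by simp⟩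
  | tmul c m =>
    obtain ⟨r, s, hs, hr⟩ : ∃ r s, s ∉ p.asIdeal ∧ c * algebraMap A κ[p] s = algebraMap A κ[p] r := by
      obtain ⟨⟨a, ⟨b, hb⟩⟩, hab⟩ :=
        IsLocalization.surj (nonZeroDivisors (A ⧸ p.asIdeal)) c
      obtain ⟨r, rfl⟩ := Ideal.Quotient.mk_surjective a
      obtain ⟨s, rfl⟩ := Ideal.Quotient.mk_surjective b
      refine ⟨r, s, ?_, ?_⟩
      · intro h
        exact nonZeroDivisors.ne_zero hb (Ideal.Quotient.eq_zero_iff_mem.mpr h)
      · rw [IsScalarTower.algebraMap_apply A (A ⧸ p.asIdeal) κ[p],
          IsScalarTower.algebraMap_apply A (A ⧸ p.asIdeal) κ[p]]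
        exact hab
    refine ⟨s, hs, r • m, ?_⟩
    rw [TensorProduct.smul_tmul', TensorProduct.tmul_smul, TensorProduct.smul_tmul']
    congr 1
    rw [smul_eq_mul, mul_comm, hr, Algebra.smul_def, mul_one]
  | add x y hx hy =>
    obtain ⟨s, hs, m, hm⟩ := hx
    obtain ⟨t, ht, n, hn⟩ := hy
    refine ⟨s * t, fun h => (p.isPrime.mem_or_mem h).elim hs ht, t • m + s • n, ?_⟩
    rw [map_mul, smul_add, TensorProduct.tmul_add, TensorProduct.tmul_smul, TensorProduct.tmul_smul,
      ← hm, ← hn, algebraMap_smul, algebraMap_smul, smul_smul, mul_comm t s, smul_smul]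
    rw [← map_mul, algebraMap_smul, algebraMap_smul]

end Lift

section Quotient

variable {M : Type v} [AddCommGroup M] [Module A M] (N : Submodule A M)
variable (K : Type*) [CommRing K] [Algebra A K]

lemma baseChange_eq_ker_mkQ :
    N.baseChange K = LinearMap.ker (N.mkQ.baseChange K) := by
  apply le_antisymm
  · rw [Submodule.baseChange_eq_span, Submodule.span_le]
    rintro _ ⟨n, hn, rfl⟩
    simp [(Submodule.Quotient.mk_eq_zero N).mpr hn]
  · intro x hx
    have hex : Function.Exact N.subtype N.mkQ := LinearMap.exact_subtype_mkQ N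
    obtain ⟨y, rfl⟩ := (lTensor_exact K hex N.mkQ_surjective x).mp hx
    clear hx
    induction y using TensorProduct.induction_on with
    | zero => simp
    | tmul c n => exact Submodule.tmul_mem_baseChange_of_mem c n.2
    | add a b ha hb =>
      rw [map_add]
      exact add_mem ha hb

lemma exists_leftInverse_subtype [Module.Projective A (M ⧸ N)] :
    ∃ r : M →ₗ[A] N, r.comp N.subtype = LinearMap.id := by
  obtain ⟨s, hs⟩ := Module.projective_lifting_property N.mkQ LinearMap.id N.mkQ_surjective
  have hmem : ∀ m : M, ((LinearMap.id : M →ₗ[A] M) - s.comp N.mkQ) m ∈ N := by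
    intro m
    rw [← Submodule.Quotient.mk_eq_zero, ← Submodule.mkQ_apply]
    have := LinearMap.congr_fun hs (N.mkQ m)
    simp only [LinearMap.comp_apply, LinearMap.id_apply] at this
    simp only [Submodule.mkQ_apply] at this
    simp [this]
  refine ⟨(LinearMap.id - s.comp N.mkQ).codRestrict N hmem, ?_⟩
  ext n
  simp [(Submodule.Quotient.mk_eq_zero N).mpr n.2]

lemma baseChange_subtype_injective [Module.Projective A (M ⧸ N)] :
    Function.Injective (N.subtype.baseChange K) := by
  obtain ⟨r, hr⟩ := exists_leftInverse_subtype N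
  intro x y h
  have := congr_arg (r.baseChange K) h
  simpa [← LinearMap.comp_apply, ← LinearMap.baseChange_comp, hr] using this

lemma range_baseChange_subtype :
    LinearMap.range (N.subtype.baseChange K) = N.baseChange K := by
  apply le_antisymm
  · rintro _ ⟨y, rfl⟩
    induction y using TensorProduct.induction_on with
    | zero => simp
    | tmul c n => simpa using Submodule.tmul_mem_baseChange_of_mem c n.2
    | add a b ha hb => rw [map_add]; exact add_mem ha hb
  · rw [Submodule.baseChange_eq_span, Submodule.span_le]
    rintro _ ⟨n, hn, rfl⟩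
    exact ⟨1 ⊗ₜ ⟨n, hn⟩, by simp⟩

lemma finite_of_projective_quotient [Module.Finite A M] [Module.Projective A (M ⧸ N)] :
    Module.Finite A N := by
  obtain ⟨r, hr⟩ := exists_leftInverse_subtype N
  exact Module.Finite.of_surjective r fun n => ⟨n, LinearMap.congr_fun hr n⟩

lemma projective_of_projective_quotient [Module.Projective A M] [Module.Projective A (M ⧸ N)] :
    Module.Projective A N := by
  obtain ⟨r, hr⟩ := exists_leftInverse_subtype N
  exact Module.Projective.of_split N.subtype r hr

end Quotient

section Endo

variable {Q : Type v} [AddCommGroup Q] [Module A Q] [Module.Finite A Q] [Module.Projective A Q]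
variable (f : Module.End A Q)

/-- An endomorphism of a finitely generated projective module which is injective in the fibre at
`p` is killed by a polynomial with constant coefficient outside `p`. -/
lemma exists_aeval_eq_zero_of_fibre_injective (p : PrimeSpectrum A)
    (hf : Function.Injective (f.baseChange κ[p])) :
    ∃ P : Polynomial A, P.coeff 0 ∉ p.asIdeal ∧ Polynomial.aeval f P = 0 := by
  obtain ⟨n, π, hπ⟩ := Module.Finite.exists_fin' A Q
  obtain ⟨s, hs⟩ := Module.projective_lifting_property π LinearMap.id hπ
  have hs' : ∀ q, π (s q) = q := fun q => LinearMap.congr_fun hs q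
  let F : Module.End A (Fin n → A) := LinearMap.id - s.comp π + (s.comp f).comp π
  have hF : π.comp F = f.comp π := by
    ext v
    simp [F, hs']
  refine ⟨F.charpoly, ?_, ?_⟩
  · intro hmem
    have h0 : (F.baseChange κ[p]).charpoly.coeff 0 = 0 := by
      rw [LinearMap.charpoly_baseChange, Polynomial.coeff_map, Ideal.algebraMap_residueField_eq_zero]
      exact hmem
    rw [← Polynomial.constantCoeff_apply, LinearMap.charpoly_constantCoeff_eq_zero_iff] at h0
    obtain ⟨v, hv0, hv⟩ := h0
    have hπv : π.baseChange κ[p] v = 0 := by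
      apply hf
      rw [map_zero, ← LinearMap.comp_apply, ← LinearMap.baseChange_comp, ← hF,
        LinearMap.baseChange_comp, LinearMap.comp_apply, hv, map_zero]
    apply hv0
    have hFv : F.baseChange κ[p] v = v := by
      simp [F, LinearMap.baseChange_add, LinearMap.baseChange_sub, LinearMap.baseChange_id,
        LinearMap.baseChange_comp, hπv]
    rw [← hFv, hv]
  · have hpoly : ∀ P : Polynomial A,
        π.comp (Polynomial.aeval F P) = (Polynomial.aeval f P).comp π := by
      intro P
      induction P using Polynomial.induction_on' with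
      | add a b ha hb => rw [map_add, map_add, LinearMap.comp_add, LinearMap.add_comp, ha, hb]
      | monomial k c =>
        rw [Polynomial.aeval_monomial, Polynomial.aeval_monomial]
        induction k with
        | zero => ext v; simp
        | succ k ih =>
          refine LinearMap.ext fun v => ?_
          have h1 := LinearMap.congr_fun ih (F v)
          have h2 := LinearMap.congr_fun hF v
          simp only [LinearMap.comp_apply, Module.End.mul_apply, pow_succ] at h1 h2 ⊢
          rw [h1, h2]
    have := hpoly F.charpoly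
    rw [LinearMap.aeval_self_charpoly, LinearMap.comp_zero] at this
    ext q
    obtain ⟨v, rfl⟩ := hπ q
    exact (LinearMap.congr_fun this v).symm

variable {f}

omit [Module.Finite A Q] [Module.Projective A Q] in
lemma smul_eq_zero_of_pow_apply_eq_zero {P : Polynomial A} (hP : Polynomial.aeval f P = 0)
    (m : ℕ) {w : Q} (hw : (f ^ m) w = 0) : P.coeff 0 ^ m • w = 0 := by
  induction m generalizing w with
  | zero => simpa using hw
  | succ m ih =>
    have hfin : (f ^ m) (P.coeff 0 • w) = 0 := by
      have hs := (Polynomial.divX_mul_X_add P).symm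
      have h1 := LinearMap.congr_fun hP w
      rw [hs, map_add, map_mul, Polynomial.aeval_X, Polynomial.aeval_C] at h1
      simp only [LinearMap.add_apply, Module.End.mul_apply, Module.algebraMap_end_apply,
        LinearMap.zero_apply] at h1
      have hcomm : f ^ m * Polynomial.aeval f P.divX = Polynomial.aeval f P.divX * f ^ m := by
        have := congr_arg (Polynomial.aeval f) (mul_comm (Polynomial.X ^ m) P.divX)
        simpa [map_mul, map_pow] using this
      have hzero : (f ^ m) (Polynomial.aeval f P.divX (f w)) = 0 := by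
        rw [← Module.End.mul_apply, hcomm, Module.End.mul_apply, ← Module.End.mul_apply (f := f ^ m),
          ← pow_succ, hw, map_zero]
      have h2 := congr_arg (f ^ m) h1
      rwa [map_add, hzero, map_zero, zero_add] at h2
    have := ih hfin
    rwa [smul_smul, ← pow_succ] at this

omit [Module.Finite A Q] [Module.Projective A Q] in
lemma smul_mem_range {P : Polynomial A} (hP : Polynomial.aeval f P = 0) (y : Q) :
    P.coeff 0 • y ∈ LinearMap.range f := by
  refine ⟨-(Polynomial.aeval f P.divX y), ?_⟩
  have h1 := LinearMap.congr_fun hP y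
  rw [← Polynomial.X_mul_divX_add P, map_add, map_mul, Polynomial.aeval_X, Polynomial.aeval_C] at h1
  simp only [LinearMap.add_apply, Module.End.mul_apply, Module.algebraMap_end_apply,
    LinearMap.zero_apply] at h1
  rw [map_neg, neg_eq_iff_add_eq_zero]
  simpa using h1

/-- An element killed by a power of a fibrewise injective endomorphism near `p`. -/
lemma exists_pow_smul_eq_zero {a : A} (hf : ∀ p : PrimeSpectrum A, a ∉ p.asIdeal →
    Function.Injective (f.baseChange κ[p])) {m : ℕ} {w : Q} (hw : (f ^ m) w = 0) :
    ∃ n : ℕ, a ^ n • w = 0 := by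
  let J : Ideal A := LinearMap.ker (LinearMap.toSpanSingleton A Q w)
  have ha : a ∈ J.radical := by
    rw [Ideal.radical_eq_sInf, Ideal.mem_sInf]
    rintro P ⟨hJP, hP⟩
    by_contra haP
    obtain ⟨Pol, h0, hPol⟩ := exists_aeval_eq_zero_of_fibre_injective f ⟨P, hP⟩ (hf ⟨P, hP⟩ haP)
    exact h0 (hP.mem_of_pow_mem m (hJP (smul_eq_zero_of_pow_apply_eq_zero hPol m hw)))
  obtain ⟨n, hn⟩ := ha
  exact ⟨n, hn⟩

lemma eq_zero_of_pow_apply_eq_zero (hf : ∀ p : PrimeSpectrum A,
    Function.Injective (f.baseChange κ[p])) {m : ℕ} {w : Q} (hw : (f ^ m) w = 0) : w = 0 := by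
  obtain ⟨n, hn⟩ := exists_pow_smul_eq_zero (a := 1) (fun p _ => hf p) hw
  simpa using hn

lemma surjective_of_fibre_injective (hf : ∀ p : PrimeSpectrum A,
    Function.Injective (f.baseChange κ[p])) : Function.Surjective f := by
  intro y
  let J : Ideal A := (LinearMap.range f).comap (LinearMap.toSpanSingleton A Q y)
  have h1 : (1 : A) ∈ J := by
    by_contra h
    obtain ⟨P, hP, hJP⟩ := Ideal.exists_le_maximal J ((Ideal.ne_top_iff_one J).mpr h)
    obtain ⟨Pol, h0, hPol⟩ :=
      exists_aeval_eq_zero_of_fibre_injective f ⟨P, hP.isPrime⟩ (hf _)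
    exact h0 (hJP (smul_mem_range hPol y))
  simpa [J] using h1

/-- An endomorphism of a finitely generated projective module which is nilpotent in every fibre is
nilpotent. -/
lemma isNilpotent_of_fibres (hf : ∀ p : PrimeSpectrum A, IsNilpotent (f.baseChange κ[p])) :
    IsNilpotent f := by
  obtain ⟨n, π, hπ⟩ := Module.Finite.exists_fin' A Q
  obtain ⟨s, hs⟩ := Module.projective_lifting_property π LinearMap.id hπ
  have hs' : ∀ q, π (s q) = q := fun q => LinearMap.congr_fun hs q
  let F : Module.End A (Fin n → A) := (s.comp f).comp π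
  have hpow : ∀ k, F ^ (k + 1) = (s.comp (f ^ (k + 1))).comp π := by
    intro k
    induction k with
    | zero => simp [F]
    | succ k ih =>
      refine LinearMap.ext fun v => ?_
      rw [pow_succ F, pow_succ f, Module.End.mul_apply, ih]
      simp [F, hs']
  let N := Module.finrank A (Fin n → A)
  have hE : IsNilpotent (F.charpoly - Polynomial.X ^ N) := by
    rw [Polynomial.isNilpotent_iff]
    intro i
    rw [← mem_nilradical, nilradical_eq_sInf, Ideal.mem_sInf]
    intro P hP
    haveI : P.IsPrime := hP
    haveI : Nontrivial A := nontrivial_of_ne 0 1 fun h =>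
      hP.ne_top ((Ideal.eq_top_iff_one P).mpr (h ▸ P.zero_mem))
    have hFbar : IsNilpotent (F.baseChange κ[(⟨P, hP⟩ : PrimeSpectrum A)]) := by
      obtain ⟨k, hk⟩ := hf ⟨P, hP⟩
      refine ⟨k + 1, ?_⟩
      rw [← LinearMap.baseChange_pow, hpow, LinearMap.baseChange_comp, LinearMap.baseChange_comp,
        LinearMap.baseChange_pow, pow_succ, hk]
      simp
    have hc := IsNilpotent.charpoly_eq_X_pow_finrank hFbar
    rw [LinearMap.charpoly_baseChange, Module.finrank_baseChange] at hc
    have : ((F.charpoly - Polynomial.X ^ N).map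
        (algebraMap A κ[(⟨P, hP⟩ : PrimeSpectrum A)])).coeff i = 0 := by
      rw [Polynomial.map_sub, hc, Polynomial.map_pow, Polynomial.map_X, sub_self,
        Polynomial.coeff_zero]
    rwa [Polynomial.coeff_map, Ideal.algebraMap_residueField_eq_zero] at this
  have hFN : IsNilpotent (F ^ N) := by
    have := IsNilpotent.map hE (Polynomial.aeval F)
    rw [map_sub, LinearMap.aeval_self_charpoly, map_pow, Polynomial.aeval_X, zero_sub,
      isNilpotent_neg_iff] at this
    exact this
  obtain ⟨k, hk⟩ := hFN
  refine ⟨N * k + 1, ?_⟩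
  ext q
  have h1 : (F ^ (N * k + 1)) (s q) = 0 := by rw [pow_succ, pow_mul, hk]; rfl
  rw [hpow] at h1
  have := congr_arg π h1
  simpa [hs'] using this

end Endo

end LieCartan
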