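import Mathlib.Algebra.Lie.CartanExists
import Mathlib.Algebra.Lie.BaseChange
import Mathlib.RingTheory.LocalRing.ResidueField.Ideal
import Mathlib.RingTheory.Spectrum.Prime.Basic
import Mathlib.LinearAlgebra.Charpoly.BaseChange
import Mathlib.RingTheory.Flat.Basic
import Mathlib.FieldTheory.IsAlgClosed.AlgebraicClosure
import Mathlib.RingTheory.Spectrum.Prime.RingHom

/-!
# Rank and regular elements of Lie algebras under base change of fields
-/

universe u v w

open scoped TensorProduct

namespace LieCartan

open LieAlgebra Module LieSubalgebra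

attribute [local instance 100] LieRing.ofAssociativeRing

section Cancel

variable (A B C : Type*) [CommRing A] [CommRing B] [CommRing C] [Algebra A B] [Algebra A C]
  [Algebra B C] [IsScalarTower A B C] (L : Type*) [LieRing L] [LieAlgebra A L]

/-- Transitivity of base change, as an equivalence of Lie algebras. -/
noncomputable def cancel : C ⊗[B] (B ⊗[A] L) ≃ₗ⁅C⁆ C ⊗[A] L :=
  { (TensorProduct.AlgebraTensorModule.cancelBaseChange A B C C L :
      C ⊗[B] (B ⊗[A] L) ≃ₗ[C] C ⊗[A] L) with
    map_lie' := by
      intro x y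
      simp only [AddHom.toFun_eq_coe, LinearMap.coe_toAddHom, LinearEquiv.coe_coe]
      induction x using TensorProduct.induction_on with
      | zero => simp
      | add a b ha hb => simp only [add_lie, map_add, ha, hb]
      | tmul c s =>
        induction y using TensorProduct.induction_on with
        | zero => simp
        | add a b ha hb => simp only [lie_add, map_add, ha, hb]
        | tmul d t =>
          rw [LieAlgebra.ExtendScalars.bracket_tmul]
          induction s using TensorProduct.induction_on with
          | zero => simp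
          | add a b ha hb =>
            simp only [add_lie, map_add, TensorProduct.tmul_add, ha, hb]
          | tmul s1 s2 =>
            induction t using TensorProduct.induction_on with
            | zero => simp
            | add a b ha hb =>
              simp only [lie_add, map_add, TensorProduct.tmul_add, ha, hb]
            | tmul t1 t2 =>
              simp only [LieAlgebra.ExtendScalars.bracket_tmul,
                TensorProduct.AlgebraTensorModule.cancelBaseChange_tmul]
              congr 1
              simp only [Algebra.smul_def, map_mul]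
              ring }

@[simp] lemma cancel_tmul (c : C) (b : B) (x : L) :
    cancel A B C L (c ⊗ₜ (b ⊗ₜ x)) = (b • c) ⊗ₜ x :=
  TensorProduct.AlgebraTensorModule.cancelBaseChange_tmul A B C c x b

lemma cancel_one_tmul (x : L) :
    cancel A B C L (1 ⊗ₜ (1 ⊗ₜ x)) = 1 ⊗ₜ x := by simp

end Cancel

section Basics

variable {R : Type*} [CommRing R] {V W : Type*} [LieRing V] [LieAlgebra R V]
  [LieRing W] [LieAlgebra R W]

lemma map_ad_pow (g : V →ₗ⁅R⁆ W) (x y : V) (n : ℕ) :
    g ((ad R V x ^ n) y) = (ad R W (g x) ^ n) (g y) := by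
  induction n with
  | zero => rfl
  | succ n ih =>
    simp only [pow_succ', Module.End.mul_apply, ad_apply, LieHom.map_lie, ih]

lemma mem_engel_map (g : V →ₗ⁅R⁆ W) {x y : V} (h : y ∈ engel R x) : g y ∈ engel R (g x) := by
  rw [mem_engel_iff] at h ⊢
  obtain ⟨n, hn⟩ := h
  exact ⟨n, by rw [← map_ad_pow, hn, map_zero]⟩

lemma map_engel (e : V ≃ₗ⁅R⁆ W) (x : V) :
    (engel R x).map e.toLieHom = engel R (e x) := by
  apply SetLike.ext
  intro w
  constructor
  · rintro ⟨y, hy, rfl⟩
    exact mem_engel_map e.toLieHom hy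
  · intro hw
    refine ⟨e.symm w, ?_, e.apply_symm_apply w⟩
    have := mem_engel_map e.symm.toLieHom hw
    simpa using this

end Basics

section BaseChange

variable (k : Type*) [CommRing k] (V : Type*) [LieRing V] [LieAlgebra k V]
variable (K : Type*) [CommRing K] [Algebra k K]

lemma ad_baseChange (x : V) :
    ad K (K ⊗[k] V) (1 ⊗ₜ x) = (ad k V x).baseChange K := by
  ext y
  change ⁅(1 : K) ⊗ₜ[k] x, (1 : K) ⊗ₜ[k] y⁆ = _
  rw [LieAlgebra.ExtendScalars.bracket_tmul, one_mul]
  rfl

lemma ad_baseChange_pow (x y : V) (n : ℕ) :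
    (ad K (K ⊗[k] V) (1 ⊗ₜ x) ^ n) (1 ⊗ₜ y) = 1 ⊗ₜ (ad k V x ^ n) y := by
  induction n with
  | zero => rfl
  | succ n ih =>
    simp only [pow_succ', Module.End.mul_apply, ad_apply, ih,
      LieAlgebra.ExtendScalars.bracket_tmul, one_mul]

lemma ad_eq_tensorProduct_comp :
    (ad K (K ⊗[k] V)).toLinearMap =
      LinearMap.tensorProduct k K V V ∘ₗ (ad k V).toLinearMap.baseChange K := by
  refine TensorProduct.AlgebraTensorModule.ext fun c x => ?_
  refine TensorProduct.AlgebraTensorModule.ext fun d y => ?_
  simp [LinearMap.tensorProduct, LieAlgebra.ExtendScalars.bracket_tmul, TensorProduct.smul_tmul']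

variable [Module.Finite k V] [Module.Free k V]

lemma charpoly_ad_baseChange (x : V) :
    (ad K (K ⊗[k] V) (1 ⊗ₜ x)).charpoly = (ad k V x).charpoly.map (algebraMap k K) := by
  rw [ad_baseChange, LinearMap.charpoly_baseChange]

lemma polyCharpoly_ad_baseChange {ι : Type*} [Fintype ι] [DecidableEq ι] (b : Basis ι k V) :
    LinearMap.polyCharpoly (ad K (K ⊗[k] V)).toLinearMap (Algebra.TensorProduct.basis K b) =
      (LinearMap.polyCharpoly (ad k V).toLinearMap b).map
        (MvPolynomial.map (algebraMap k K)) := by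
  rw [ad_eq_tensorProduct_comp, LinearMap.polyCharpoly_baseChange]

end BaseChange

lemma natTrailingDegree_map_of_injective {R S : Type*} [CommRing R] [CommRing S] {f : R →+* S}
    (hf : Function.Injective f) (P : Polynomial R) :
    (P.map f).natTrailingDegree = P.natTrailingDegree := by
  by_cases hP : P = 0
  · simp [hP]
  apply le_antisymm
  · apply Polynomial.natTrailingDegree_le_of_ne_zero
    rw [Polynomial.coeff_map, map_ne_zero_iff f hf]
    exact Polynomial.trailingCoeff_nonzero_iff_nonzero.mpr hP
  · apply Polynomial.le_natTrailingDegree ((Polynomial.map_ne_zero_iff hf).mpr hP)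
    intro i hi
    rw [Polynomial.coeff_map, Polynomial.coeff_eq_zero_of_lt_natTrailingDegree hi, map_zero]

section Field

variable (k : Type*) [Field k] (V : Type*) [LieRing V] [LieAlgebra k V] [Module.Finite k V]
variable (K : Type*) [Field K] [Algebra k K]

/-- The rank is invariant under extensions of the base field. -/
lemma rank_baseChange : LieAlgebra.rank K (K ⊗[k] V) = LieAlgebra.rank k V := by
  classical
  have b := Module.Free.chooseBasis k V
  rw [rank_eq_natTrailingDegree K (K ⊗[k] V) (Algebra.TensorProduct.basis K b),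
    rank_eq_natTrailingDegree k V b, polyCharpoly_ad_baseChange]
  exact natTrailingDegree_map_of_injective
    (MvPolynomial.map_injective _ (algebraMap k K).injective) _

variable {k V}

lemma isRegular_baseChange_iff (x : V) :
    LieAlgebra.IsRegular K ((1 : K) ⊗ₜ[k] x) ↔ LieAlgebra.IsRegular k x := by
  rw [LieAlgebra.isRegular_def, LieAlgebra.isRegular_def, rank_baseChange, charpoly_ad_baseChange,
    Polynomial.coeff_map, Ne, Ne, map_eq_zero]

end Field

section Equiv

variable {k : Type*} [Field k] {V W : Type*} [LieRing V] [LieAlgebra k V] [Module.Finite k V]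
  [LieRing W] [LieAlgebra k W] [Module.Finite k W]

omit [Module.Finite k V] [Module.Finite k W] in
lemma conj_ad (e : V ≃ₗ⁅k⁆ W) (x : V) :
    e.toLinearEquiv.conj (ad k V x) = ad k W (e x) := by
  ext w
  simp only [LinearEquiv.conj_apply_apply, ad_apply]
  change e ⁅x, e.symm w⁆ = ⁅e x, w⁆
  rw [← LieEquiv.coe_toLieHom, LieHom.map_lie]
  simp

lemma charpoly_ad_equiv (e : V ≃ₗ⁅k⁆ W) (x : V) :
    (ad k W (e x)).charpoly = (ad k V x).charpoly := by
  rw [← conj_ad, LinearEquiv.charpoly_conj]

lemma rank_congr (e : V ≃ₗ⁅k⁆ W) : LieAlgebra.rank k W = LieAlgebra.rank k V := by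
  classical
  have b := Module.Free.chooseBasis k V
  rw [rank_eq_natTrailingDegree k W (b.map e.toLinearEquiv), rank_eq_natTrailingDegree k V b,
    LinearMap.polyCharpoly_eq_of_basis _ _ (b.map e.toLinearEquiv),
    LinearMap.polyCharpoly_eq_of_basis _ _ b]
  congr 4
  funext ij
  simp only [LinearMap.toMvPolynomial, Matrix.toMvPolynomial]
  refine Finset.sum_congr rfl fun j _ => ?_
  congr 1
  simp only [LinearMap.toMatrix_apply, Basis.map_apply, LieHom.coe_toLinearMap]
  rw [show (e.toLinearEquiv (b j)) = e (b j) from rfl, ← conj_ad e (b j)]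
  simp [Basis.end, Matrix.stdBasis, LinearMap.toMatrix_apply]
  rw [show e.toLinearEquiv.symm ⁅e (b j), e (b ij.2)⁆ = ⁅b j, b ij.2⁆ from by
    rw [LinearEquiv.symm_apply_eq]
    exact (e.toLieHom.map_lie _ _).symm]

lemma isRegular_equiv_iff (e : V ≃ₗ⁅k⁆ W) (x : V) :
    LieAlgebra.IsRegular k (e x) ↔ LieAlgebra.IsRegular k x := by
  rw [LieAlgebra.isRegular_def, LieAlgebra.isRegular_def, rank_congr e, charpoly_ad_equiv]

end Equiv

section Regular

variable {k : Type u} [Field k] {V : Type v} [LieRing V] [LieAlgebra k V] [Module.Finite k V]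

/-- Over an infinite field the Engel subalgebra of a regular element is contained in the Engel
subalgebras of all of its elements. -/
lemma engel_le_engel_of_isRegular_of_infinite [Infinite k] {x y : V}
    (hx : LieAlgebra.IsRegular k x) (hy : y ∈ engel k x) : engel k x ≤ engel k y := by
  set Ex : {engel k z | z ∈ engel k x} := ⟨engel k x, x, self_mem_engel _ _, rfl⟩
  suffices IsBot Ex from @this ⟨engel k y, y, hy, rfl⟩
  apply LieAlgebra.engel_isBot_of_isMin
    (Cardinal.natCast_le_aleph0.trans <| Cardinal.infinite_iff.mp ‹Infinite k›) (engel k x) Ex le_rfl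
  rintro ⟨_, z, hz, rfl⟩ hzx
  suffices finrank k (engel k x) ≤ finrank k (engel k z) by
    suffices engel k z = engel k x from this.ge
    apply LieSubalgebra.toSubmodule_injective
    exact Submodule.eq_of_le_of_finrank_le hzx this
  rw [(LieAlgebra.isRegular_iff_finrank_engel_eq_rank k x).mp hx]
  apply LieAlgebra.rank_le_finrank_engel

/-- The same over any field. -/
lemma engel_le_engel_of_isRegular {x y : V}
    (hx : LieAlgebra.IsRegular k x) (hy : y ∈ engel k x) : engel k x ≤ engel k y := by
  let Ω := AlgebraicClosure k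
  intro z hz
  have key : ∀ {w : V}, w ∈ engel k x → (1 : Ω) ⊗ₜ[k] w ∈ engel Ω ((1 : Ω) ⊗ₜ[k] x) := by
    intro w hw
    rw [mem_engel_iff] at hw ⊢
    obtain ⟨n, hn⟩ := hw
    exact ⟨n, by rw [ad_baseChange_pow, hn, TensorProduct.tmul_zero]⟩
  have h := engel_le_engel_of_isRegular_of_infinite ((isRegular_baseChange_iff Ω x).mpr hx)
    (key hy) (key hz)
  rw [mem_engel_iff] at h ⊢
  obtain ⟨n, hn⟩ := h
  refine ⟨n, ?_⟩
  rw [ad_baseChange_pow] at hn
  have hinj : Function.Injective (fun v : V => (1 : Ω) ⊗ₜ[k] v) :=
    fun v w hvw => ((Module.Flat.rTensor_preserves_injective_linearMap (M := V)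
      (Algebra.linearMap k Ω) (algebraMap k Ω).injective).comp
        (TensorProduct.lid k V).symm.injective) (by simpa using hvw)
  exact hinj (by simpa using hn)

lemma isNilpotent_engel_of_isRegular {x : V} (hx : LieAlgebra.IsRegular k x) :
    LieRing.IsNilpotent (engel k x) :=
  isNilpotent_of_forall_le_engel _ fun _ hy => engel_le_engel_of_isRegular hx hy

omit [Module.Finite k V] in
lemma engel_smul {c : k} (hc : c ≠ 0) (x : V) : engel k (c • x) = engel k x := by
  apply SetLike.ext
  intro y
  simp only [mem_engel_iff, map_smul, smul_pow, LinearMap.smul_apply,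
    smul_eq_zero, pow_eq_zero_iff', hc, false_and, false_or]

lemma isRegular_smul_iff {c : k} (hc : c ≠ 0) (x : V) :
    LieAlgebra.IsRegular k (c • x) ↔ LieAlgebra.IsRegular k x := by
  rw [LieAlgebra.isRegular_iff_finrank_engel_eq_rank, engel_smul hc,
    LieAlgebra.isRegular_iff_finrank_engel_eq_rank]

end Regular

section OfAlgebra

variable {A : Type u} [CommRing A] (L : Type v) [LieRing L] [LieAlgebra A L] [Module.Finite A L]
variable (K : Type w) [Field K] [Algebra A K]

/-- The ring homomorphism from the residue field at the kernel. -/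
noncomputable def residueHom (p : PrimeSpectrum A) (hp : p.asIdeal = RingHom.ker (algebraMap A K)) :
    p.asIdeal.ResidueField →+* K :=
  Ideal.ResidueField.lift p.asIdeal (algebraMap A K) hp.le (by
    intro a ha
    refine Ne.isUnit fun h => ha ?_
    rw [hp]
    exact h)

variable {L}

lemma rank_and_regular_of_ker_eq (p : PrimeSpectrum A)
    (hp : p.asIdeal = RingHom.ker (algebraMap A K)) :
    LieAlgebra.rank K (K ⊗[A] L) =
        LieAlgebra.rank p.asIdeal.ResidueField (p.asIdeal.ResidueField ⊗[A] L) ∧
    ∀ a : L, LieAlgebra.IsRegular K ((1 : K) ⊗ₜ[A] a) ↔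
        LieAlgebra.IsRegular p.asIdeal.ResidueField ((1 : p.asIdeal.ResidueField) ⊗ₜ[A] a) := by
  letI : Algebra p.asIdeal.ResidueField K := (residueHom K p hp).toAlgebra
  haveI : IsScalarTower A p.asIdeal.ResidueField K :=
    IsScalarTower.of_algebraMap_eq fun a => by
      rw [RingHom.algebraMap_toAlgebra, residueHom]
      exact (Ideal.ResidueField.lift_algebraMap _ _ _ _ _).symm
  refine ⟨?_, fun a => ?_⟩
  · rw [rank_congr (cancel A p.asIdeal.ResidueField K L), rank_baseChange]
  · rw [← cancel_one_tmul A p.asIdeal.ResidueField K L a, isRegular_equiv_iff,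
      isRegular_baseChange_iff]

lemma rank_of_ker_eq (p : PrimeSpectrum A)
    (hp : p.asIdeal = RingHom.ker (algebraMap A K)) :
    LieAlgebra.rank K (K ⊗[A] L) =
        LieAlgebra.rank p.asIdeal.ResidueField (p.asIdeal.ResidueField ⊗[A] L) :=
  (rank_and_regular_of_ker_eq K p hp).1

lemma isRegular_of_ker_eq (p : PrimeSpectrum A)
    (hp : p.asIdeal = RingHom.ker (algebraMap A K)) (a : L) :
    LieAlgebra.IsRegular K ((1 : K) ⊗ₜ[A] a) ↔
        LieAlgebra.IsRegular p.asIdeal.ResidueField ((1 : p.asIdeal.ResidueField) ⊗ₜ[A] a) :=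
  (rank_and_regular_of_ker_eq K p hp).2 a

variable {B : Type*} [CommRing B] [Algebra A B]

lemma ker_algebraMap_residueField_comap (q : PrimeSpectrum B) [Algebra A q.asIdeal.ResidueField]
    [IsScalarTower A B q.asIdeal.ResidueField] :
    (PrimeSpectrum.comap (algebraMap A B) q).asIdeal =
      RingHom.ker (algebraMap A q.asIdeal.ResidueField) := by
  ext a
  rw [IsScalarTower.algebraMap_eq A B q.asIdeal.ResidueField, RingHom.mem_ker, RingHom.comp_apply,
    Ideal.algebraMap_residueField_eq_zero]
  rfl

/-- Rank of the fibres of a base change. -/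
lemma rank_fibre_baseChange (q : PrimeSpectrum B) :
    LieAlgebra.rank q.asIdeal.ResidueField (q.asIdeal.ResidueField ⊗[B] (B ⊗[A] L)) =
      LieAlgebra.rank (PrimeSpectrum.comap (algebraMap A B) q).asIdeal.ResidueField
        ((PrimeSpectrum.comap (algebraMap A B) q).asIdeal.ResidueField ⊗[A] L) := by
  rw [← rank_congr (cancel A B q.asIdeal.ResidueField L)]
  exact rank_of_ker_eq _ _ (ker_algebraMap_residueField_comap q)

lemma isRegular_fibre_baseChange (q : PrimeSpectrum B) (a : L) :
    LieAlgebra.IsRegular q.asIdeal.ResidueField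
        ((1 : q.asIdeal.ResidueField) ⊗ₜ[B] ((1 : B) ⊗ₜ[A] a)) ↔
      LieAlgebra.IsRegular (PrimeSpectrum.comap (algebraMap A B) q).asIdeal.ResidueField
        ((1 : (PrimeSpectrum.comap (algebraMap A B) q).asIdeal.ResidueField) ⊗ₜ[A] a) := by
  rw [← isRegular_equiv_iff (cancel A B q.asIdeal.ResidueField L), cancel_one_tmul]
  exact isRegular_of_ker_eq _ _ (ker_algebraMap_residueField_comap q) a

end OfAlgebra

end LieCartan
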