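import Groth.Agent.LieCartan.Rel
import Mathlib.RingTheory.OrzechProperty
import Mathlib.RingTheory.LocalProperties.Reduced
import Mathlib.RingTheory.Localization.BaseChange
import Mathlib.RingTheory.Nilpotent.Lemmas

/-!
# Quasi-regular elements over a reduced base with locally constant rank
-/

universe u

open scoped TensorProduct

namespace LieCartan

open LieAlgebra Module LieSubalgebra SGA3t2b

attribute [local instance 100] LieRing.ofAssociativeRing

local notation "κ[" p "]" => Ideal.ResidueField (PrimeSpectrum.asIdeal p)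

/-- Over a reduced ring, the coefficients of the characteristic polynomials below the fibre ranks
vanish. -/
lemma charpoly_coeff_eq_zero {R : Type*} [CommRing R] [IsReduced R] {V : Type*} [LieRing V]
    [LieAlgebra R V] [Module.Free R V] [Module.Finite R V] {r : ℕ}
    (hr : ∀ P : PrimeSpectrum R, r ≤ LieAlgebra.rank κ[P] (κ[P] ⊗[R] V))
    (S : Type*) [CommRing S] [Algebra R S] (y : S ⊗[R] V) {i : ℕ} (hi : i < r) :
    (ad S (S ⊗[R] V) y).charpoly.coeff i = 0 := by
  classical
  let b := Module.Free.chooseBasis R V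
  have hP : (LinearMap.polyCharpoly (ad R V).toLinearMap b).coeff i = 0 := by
    ext m
    rw [MvPolynomial.coeff_zero]
    refine (isReduced_iff R).mp ‹_› _ ?_
    rw [← mem_nilradical, nilradical_eq_sInf, Ideal.mem_sInf]
    intro P hP
    haveI : P.IsPrime := hP
    let P' : PrimeSpectrum R := ⟨P, hP⟩
    haveI : P'.asIdeal.IsPrime := hP
    have h := hr P'
    rw [rank_eq_natTrailingDegree κ[P'] (κ[P'] ⊗[R] V) (Algebra.TensorProduct.basis κ[P'] b),
      polyCharpoly_ad_baseChange] at h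
    have h0 := Polynomial.coeff_eq_zero_of_lt_natTrailingDegree (hi.trans_le h)
    rw [Polynomial.coeff_map] at h0
    have h1 := congr_arg (MvPolynomial.coeff m) h0
    rw [MvPolynomial.coeff_map, MvPolynomial.coeff_zero,
      Ideal.algebraMap_residueField_eq_zero] at h1
    exact h1
  have := LinearMap.polyCharpoly_map_eq_charpoly (ad S (S ⊗[R] V)).toLinearMap
    (Algebra.TensorProduct.basis S b) y
  change Polynomial.map _ _ = (ad S (S ⊗[R] V) y).charpoly at this
  rw [← this, polyCharpoly_ad_baseChange, Polynomial.coeff_map, Polynomial.coeff_map, hP, map_zero,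
    map_zero]

lemma pow_apply_mem_range {S : Type*} [CommRing S] {V : Type*} [AddCommGroup V] [Module S V]
    [Module.Free S V] [Module.Finite S V] (f : Module.End S V) {r : ℕ}
    (h0 : ∀ i < r, f.charpoly.coeff i = 0) (hu : IsUnit (f.charpoly.coeff r)) (v : V) :
    ∃ w, (f ^ r) v = (f ^ (r + 1)) w := by
  obtain ⟨g, hg⟩ := (Polynomial.X_pow_dvd_iff).mpr h0
  have hc : g.coeff 0 = f.charpoly.coeff r := by
    rw [hg, Polynomial.coeff_X_pow_mul']
    simp
  obtain ⟨c, hc'⟩ := hu
  have h1 := LinearMap.congr_fun f.aeval_self_charpoly v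
  rw [hg, map_mul, map_pow, Polynomial.aeval_X] at h1
  conv_lhs at h1 => rw [← Polynomial.X_mul_divX_add g, map_add, map_mul, Polynomial.aeval_X,
    Polynomial.aeval_C, hc, ← hc']
  simp only [Module.End.mul_apply, LinearMap.add_apply, Module.algebraMap_end_apply,
    LinearMap.zero_apply, map_add, map_smul] at h1
  rw [← Module.End.mul_apply, ← pow_succ, add_comm, add_eq_zero_iff_eq_neg] at h1
  refine ⟨-((c⁻¹ : Sˣ) : S) • Polynomial.aeval f g.divX v, ?_⟩
  rw [map_smul, neg_smul, ← smul_neg, ← h1, smul_smul, Units.inv_mul, one_smul]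

variable {A : Type u} [CommRing A] {L : Type u} [LieRing L] [LieAlgebra A L] [Module.Finite A L]
  [Module.Projective A L] [IsReduced A]
  (hC0 : ∀ p : PrimeSpectrum A, ∃ f : A, f ∉ p.asIdeal ∧ ∀ q : PrimeSpectrum A, f ∉ q.asIdeal →
      fibreRank A L q = fibreRank A L p)
  {B : Type u} [CommRing B] [Algebra A B] {b : B ⊗[A] L}
  (hb : IsQuasiRegular B (B ⊗[A] L) b)

include hC0 hb

lemma exists_smul_pow_mem_range (q : PrimeSpectrum B) (v : B ⊗[A] L) {N : ℕ}
    (hN : fibreRank A L (PrimeSpectrum.comap (algebraMap A B) q) ≤ N) :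
    ∃ h ∉ q.asIdeal, h • (ad B (B ⊗[A] L) b ^ N) v ∈
      LinearMap.range (ad B (B ⊗[A] L) b ^ (N + 1)) := by
  let p := PrimeSpectrum.comap (algebraMap A B) q
  obtain ⟨f, hpf, hf⟩ := hC0 p
  set r := fibreRank A L p with hr
  let R := Localization.AtPrime p.asIdeal
  let S := Localization.AtPrime q.asIdeal
  letI : Algebra R S :=
    (Localization.localRingHom p.asIdeal q.asIdeal (algebraMap A B) rfl).toAlgebra
  haveI : IsScalarTower A R S := IsScalarTower.of_algebraMap_eq fun a => by
    rw [RingHom.algebraMap_toAlgebra]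
    refine Eq.trans ?_ (Localization.localRingHom_to_map p.asIdeal q.asIdeal (algebraMap A B) rfl a).symm
    exact IsScalarTower.algebraMap_apply A B S a
  haveI : Module.Free R (R ⊗[A] L) := Module.free_of_flat_of_isLocalRing
  haveI : Module.Free S (S ⊗[B] (B ⊗[A] L)) := Module.free_of_flat_of_isLocalRing
  have hrk : ∀ P : PrimeSpectrum R, r ≤ LieAlgebra.rank κ[P] (κ[P] ⊗[R] (R ⊗[A] L)) := by
    intro P
    rw [rank_fibre_baseChange]
    refine (hf _ fun hfP => ?_).ge
    exact P.isPrime.ne_top (Ideal.eq_top_of_isUnit_mem _ hfP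
      (IsLocalization.map_units R (⟨f, hpf⟩ : p.asIdeal.primeCompl)))
  let F := ad S (S ⊗[B] (B ⊗[A] L)) ((1 : S) ⊗ₜ[B] b)
  let e := (cancel A B S L).trans (cancel A R S L).symm
  have h0 : ∀ i < r, F.charpoly.coeff i = 0 := by
    intro i hi
    have h1 := charpoly_coeff_eq_zero hrk S (e ((1 : S) ⊗ₜ[B] b)) hi
    have hconj : e.toLinearEquiv.conj F = ad S _ (e ((1 : S) ⊗ₜ[B] b)) := by
      ext w
      simp only [F]
      change e ⁅(1 : S) ⊗ₜ[B] b, e.symm _⁆ = ⁅e ((1 : S) ⊗ₜ[B] b), _⁆
      rw [← LieEquiv.coe_toLieHom, LieHom.map_lie]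
      simp
    rwa [← hconj, LinearEquiv.charpoly_conj] at h1
  have hu : IsUnit (F.charpoly.coeff r) := by
    have hreg := hb q
    rw [LieAlgebra.isRegular_def, rank_fibre_baseChange] at hreg
    change (ad κ[q] _ ((1 : κ[q]) ⊗ₜ[B] b)).charpoly.coeff r ≠ 0 at hreg
    have h2 : (ad κ[q] _ ((1 : κ[q]) ⊗ₜ[B] b)).charpoly =
        F.charpoly.map (algebraMap S κ[q]) := by
      rw [← charpoly_ad_baseChange S (S ⊗[B] (B ⊗[A] L)) κ[q] ((1 : S) ⊗ₜ[B] b),
        ← charpoly_ad_equiv (cancel B S κ[q] (B ⊗[A] L)), cancel_one_tmul]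
    rw [h2, Polynomial.coeff_map] at hreg
    by_contra hnu
    exact hreg ((IsLocalRing.residue_eq_zero_iff _).mpr hnu)
  obtain ⟨w, hw⟩ := pow_apply_mem_range F h0 hu ((1 : S) ⊗ₜ[B] v)
  have hmk : IsLocalizedModule q.asIdeal.primeCompl (TensorProduct.mk B S (B ⊗[A] L) 1) :=
    (isLocalizedModule_iff_isBaseChange q.asIdeal.primeCompl S _).mpr
      (TensorProduct.isBaseChange B (B ⊗[A] L) S)
  obtain ⟨⟨y, s⟩, hys⟩ := IsLocalizedModule.surj q.asIdeal.primeCompl
    (TensorProduct.mk B S (B ⊗[A] L) 1) w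
  simp only [TensorProduct.mk_apply] at hys
  set g := ad B (B ⊗[A] L) b with hg
  have hz : (TensorProduct.mk B S (B ⊗[A] L) 1)
      ((s : B) • (g ^ r) v - (g ^ (r + 1)) y) = 0 := by
    rw [map_sub, map_smul, TensorProduct.mk_apply, TensorProduct.mk_apply,
      ← ad_baseChange_pow B (B ⊗[A] L) S b y (r + 1), ← hys,
      ← ad_baseChange_pow B (B ⊗[A] L) S b v r]
    change (s : B) • (F ^ r) _ - (F ^ (r + 1)) ((s : B) • w) = 0
    rw [hw, LinearMap.map_smul_of_tower, sub_self]
  obtain ⟨t, ht⟩ := (IsLocalizedModule.eq_zero_iff q.asIdeal.primeCompl _).mp hz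
  rw [Submonoid.smul_def, smul_sub, smul_smul, sub_eq_zero] at ht
  refine ⟨(t : B) * s, fun h => (q.isPrime.mem_or_mem h).elim t.2 s.2, ?_⟩
  obtain ⟨k, rfl⟩ : ∃ k, N = k + r := ⟨N - r, by omega⟩
  refine ⟨(t : B) • y, ?_⟩
  rw [add_assoc, pow_add g k (r + 1), pow_add g k r, Module.End.mul_apply, Module.End.mul_apply,
    map_smul (g ^ (r + 1)), ← ht, map_smul (g ^ k)]

lemma exists_isCartanRel : ∃ H : LieSubalgebra B (B ⊗[A] L), IsCartanRel H ∧ b ∈ H := by
  obtain ⟨n, π, hπ⟩ := Module.Finite.exists_fin' A L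
  set f := ad B (B ⊗[A] L) b with hf
  have hN : ∀ p : PrimeSpectrum A, fibreRank A L p ≤ n := by
    intro p
    refine (LieAlgebra.rank_le_finrank _ _).trans ?_
    have := LinearMap.finrank_le_finrank_of_surjective (f := π.baseChange κ[p])
      (LinearMap.lTensor_surjective κ[p] hπ)
    exact this.trans_eq ((TensorProduct.piScalarRight A κ[p] κ[p] (Fin n)).finrank_eq.trans
      (Module.finrank_fin_fun _))
  have hstep : ∀ v, (f ^ (n + 1)) v ∈ LinearMap.range (f ^ (n + 2)) := by
    intro v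
    let J : Ideal B := (LinearMap.range (f ^ (n + 2))).comap
      (LinearMap.toSpanSingleton B _ ((f ^ (n + 1)) v))
    have h1 : (1 : B) ∈ J := by
      by_contra h
      obtain ⟨P, hP, hJP⟩ := Ideal.exists_le_maximal J ((Ideal.ne_top_iff_one J).mpr h)
      obtain ⟨c, hc, hmem⟩ := exists_smul_pow_mem_range hC0 hb ⟨P, hP.isPrime⟩ v (N := n + 1)
        ((hN _).trans n.le_succ)
      exact hc (hJP hmem)
    simpa [J] using h1
  have hiter : ∀ k v, (f ^ (n + 1)) v ∈ LinearMap.range (f ^ (n + 1 + k)) := by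
    intro k
    induction k with
    | zero => exact fun v => ⟨v, rfl⟩
    | succ k ih =>
      intro v
      obtain ⟨w, hw⟩ := hstep v
      obtain ⟨z, hz⟩ := ih w
      refine ⟨z, ?_⟩
      rw [← hw, ← add_assoc, pow_succ' f (n + 1 + k), pow_succ' f (n + 1), Module.End.mul_apply,
        Module.End.mul_apply, hz]
  set g := f ^ (n + 1) with hg
  let M := LinearMap.range g
  have hgM : ∀ x ∈ M, g x ∈ M := fun x _ => ⟨x, rfl⟩
  have hsurjM : Function.Surjective (g.restrict hgM) := by
    rintro ⟨_, v, rfl⟩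
    obtain ⟨w, hw⟩ := hiter (n + 1) v
    rw [pow_add, Module.End.mul_apply] at hw
    exact ⟨⟨g w, w, rfl⟩, Subtype.ext hw⟩
  have hinjM : Function.Injective (g.restrict hgM) :=
    OrzechProperty.injective_of_surjective_endomorphism _ hsurjM
  have hdisj : ∀ x ∈ M, g x = 0 → x = 0 := fun x hx h =>
    congr_arg Subtype.val (hinjM (a₁ := ⟨x, hx⟩) (a₂ := 0) (Subtype.ext (by simpa using h)))
  have hcompl : IsCompl M (LinearMap.ker g) := by
    refine ⟨Submodule.disjoint_def.mpr fun x hx h => hdisj x hx h, codisjoint_iff.mpr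
      (eq_top_iff.mpr fun x _ => ?_)⟩
    obtain ⟨⟨y, hy⟩, hxy⟩ := hsurjM ⟨g x, x, rfl⟩
    have hxy' : g y = g x := congr_arg Subtype.val hxy
    rw [show x = y + (x - y) by abel]
    exact Submodule.add_mem_sup hy (by rw [LinearMap.mem_ker, map_sub, hxy', sub_self])
  have hengel : (engel B b).toSubmodule = LinearMap.ker g := by
    refine le_antisymm (fun x hx => ?_) fun x hx => (mem_engel_iff B b x).mpr ⟨n + 1, hx⟩
    obtain ⟨m, hm⟩ := (mem_engel_iff B b x).mp hx
    have hm' : (g ^ m) x = 0 := by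
      rw [hg, ← pow_mul, add_mul, one_mul, pow_add, Module.End.mul_apply, hm, map_zero]
    rw [LinearMap.mem_ker]
    clear hm
    induction m generalizing x with
    | zero => rw [show x = 0 from hm', map_zero]
    | succ m ih =>
      have h1 : g (g x) = 0 := by
        rw [pow_succ, Module.End.mul_apply] at hm'
        exact ih (x := g x) ((mem_engel_iff B b _).mpr
          ⟨(n + 1) * m, by rw [pow_mul, ← hg]; exact hm'⟩) hm'
      exact hdisj (g x) ⟨x, rfl⟩ h1
  haveI : Module.Projective B M :=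
    Module.Projective.of_split M.subtype (M.projectionOnto _ hcompl)
      (LinearMap.ext fun x => Submodule.projectionOnto_apply_left hcompl x)
  refine ⟨engel B b, isCartanRel_engel hb ?_ fun y => ?_, self_mem_engel B b⟩
  · rw [hengel]
    exact Module.Projective.of_equiv g.quotKerEquivRange.symm
  · obtain ⟨w, hw⟩ := hiter (n + 1) y
    refine ⟨(f ^ n) w, ?_⟩
    change _ ∈ (engel B b).toSubmodule
    rw [hengel, LinearMap.mem_ker, map_sub, show ⁅b, (f ^ n) w⁆ = g w by
      rw [hg, pow_succ', Module.End.mul_apply]; rfl, ← Module.End.mul_apply, ← pow_add, hw, sub_self]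

end LieCartan
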