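import Groth.Prelude.Def_W4sga3xiixivxvCartan
import Groth.Agent.LieCartan.Rank
import Groth.Agent.LieCartan.Fibre
import Mathlib.RingTheory.Spectrum.Prime.FreeLocus
import Mathlib.RingTheory.Localization.Free
import Mathlib.RingTheory.Flat.FaithfullyFlat.Algebra
import Mathlib.RingTheory.Ideal.GoingDown

/-!
# Relative Cartan subalgebras
-/

universe u

open scoped TensorProduct

namespace LieCartan

open LieAlgebra Module LieSubalgebra SGA3t2b

attribute [local instance 100] LieRing.ofAssociativeRing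

local notation "κ[" p "]" => Ideal.ResidueField (PrimeSpectrum.asIdeal p)

variable {A : Type u} [CommRing A] {L : Type u} [LieRing L] [LieAlgebra A L]

lemma mem_engel_of_lie_mem {R : Type*} [CommRing R] {V : Type*} [LieRing V] [LieAlgebra R V]
    {x y : V} (h : ⁅x, y⁆ ∈ engel R x) : y ∈ engel R x := by
  rw [mem_engel_iff] at h ⊢
  obtain ⟨n, hn⟩ := h
  exact ⟨n + 1, by rwa [pow_succ, Module.End.mul_apply, ad_apply]⟩

variable (H : LieSubalgebra A L) {a : L}

/-- `ad a` on the quotient by a subalgebra containing `a`. -/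
noncomputable def qEnd (ha : a ∈ H) : Module.End A (L ⧸ H.toSubmodule) :=
  H.toSubmodule.mapQ H.toSubmodule (ad A L a) fun _ hy => H.lie_mem ha hy

lemma qEnd_mkQ (ha : a ∈ H) (y : L) :
    qEnd H ha (H.toSubmodule.mkQ y) = H.toSubmodule.mkQ ⁅a, y⁆ := rfl

lemma qEnd_pow_mkQ (ha : a ∈ H) (y : L) (n : ℕ) :
    (qEnd H ha ^ n) (H.toSubmodule.mkQ y) = H.toSubmodule.mkQ ((ad A L a ^ n) y) := by
  induction n with
  | zero => rfl
  | succ n ih => simp only [pow_succ', Module.End.mul_apply, ih]; rfl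

lemma qEnd_baseChange (ha : a ∈ H) (p : PrimeSpectrum A) (x : κ[p] ⊗[A] L) :
    (qEnd H ha).baseChange κ[p] (H.toSubmodule.mkQ.baseChange κ[p] x) =
      H.toSubmodule.mkQ.baseChange κ[p] ⁅(1 : κ[p]) ⊗ₜ[A] a, x⁆ := by
  induction x using TensorProduct.induction_on with
  | zero => simp
  | tmul c y =>
    rw [LieAlgebra.ExtendScalars.bracket_tmul, one_mul]
    rfl
  | add b c hb hc => simp only [lie_add, map_add, hb, hc]

lemma mem_fibreSubmodule_iff (p : PrimeSpectrum A) (x : κ[p] ⊗[A] L) :
    x ∈ fibreSubmodule p H ↔ H.toSubmodule.mkQ.baseChange κ[p] x = 0 := by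
  rw [fibreSubmodule, baseChange_eq_ker_mkQ]
  rfl

/-- `H(p)` is in the Engel subalgebra of `1 ⊗ a` when `H` is in that of `a`. -/
lemma fibreSubmodule_le_engel (h : H ≤ engel A a) (p : PrimeSpectrum A) :
    fibreSubmodule p H ≤ (engel κ[p] ((1 : κ[p]) ⊗ₜ[A] a)).toSubmodule := by
  rw [fibreSubmodule, Submodule.baseChange_eq_span, Submodule.span_le]
  rintro _ ⟨y, hy, rfl⟩
  obtain ⟨n, hn⟩ := (mem_engel_iff A a y).mp (h hy)
  rw [SetLike.mem_coe, LieSubalgebra.mem_toSubmodule, mem_engel_iff]
  exact ⟨n, by simp [ad_baseChange_pow, hn]⟩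

section

variable [Module.Finite A L] [Module.Projective A L]

lemma le_engel_of_isCartanRel (hH : IsCartanRel H) (ha : a ∈ H) : H ≤ engel A a := by
  haveI := hH.1
  haveI : Module.Finite A H := finite_of_projective_quotient H.toSubmodule
  haveI : Module.Projective A H := projective_of_projective_quotient H.toSubmodule
  have hnil : IsNilpotent (ad A H ⟨a, ha⟩) := by
    refine isNilpotent_of_fibres fun p => ?_
    haveI : LieRing.IsNilpotent (κ[p] ⊗[A] H) := (hH.2 p).1
    rw [← ad_baseChange]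
    exact LieModule.isNilpotent_toEnd_of_isNilpotent κ[p] (κ[p] ⊗[A] H) _ _
  obtain ⟨n, hn⟩ := hnil
  intro y hy
  rw [mem_engel_iff]
  refine ⟨n, ?_⟩
  have := map_ad_pow H.incl ⟨a, ha⟩ ⟨y, hy⟩ n
  rw [hn] at this
  simpa using this.symm

lemma fibreSubmodule_eq_engel (hH : IsCartanRel H) (ha : a ∈ H) {p : PrimeSpectrum A}
    (hreg : LieAlgebra.IsRegular κ[p] ((1 : κ[p]) ⊗ₜ[A] a)) :
    fibreSubmodule p H = (engel κ[p] ((1 : κ[p]) ⊗ₜ[A] a)).toSubmodule := by
  refine Submodule.eq_of_le_of_finrank_le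
    (fibreSubmodule_le_engel H (le_engel_of_isCartanRel H hH ha) p) (le_of_eq ?_)
  exact ((LieAlgebra.isRegular_iff_finrank_engel_eq_rank _ _).mp hreg).trans (hH.2 p).2.2.symm

omit [Module.Finite A L] [Module.Projective A L] in
lemma qEnd_baseChange_injective (ha : a ∈ H) {p : PrimeSpectrum A}
    (he : fibreSubmodule p H = (engel κ[p] ((1 : κ[p]) ⊗ₜ[A] a)).toSubmodule) :
    Function.Injective ((qEnd H ha).baseChange κ[p]) := by
  rw [injective_iff_map_eq_zero]
  intro z hz
  obtain ⟨x, rfl⟩ : ∃ x, H.toSubmodule.mkQ.baseChange κ[p] x = z :=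
    LinearMap.lTensor_surjective κ[p] H.toSubmodule.mkQ_surjective z
  rw [qEnd_baseChange, ← mem_fibreSubmodule_iff, he, LieSubalgebra.mem_toSubmodule] at hz
  rw [← mem_fibreSubmodule_iff, he, LieSubalgebra.mem_toSubmodule]
  exact mem_engel_of_lie_mem hz

lemma engel_smul_mem_of_isCartanRel (hH : IsCartanRel H) (ha : a ∈ H) {f : A}
    (hreg : ∀ p : PrimeSpectrum A, f ∉ p.asIdeal →
      LieAlgebra.IsRegular κ[p] ((1 : κ[p]) ⊗ₜ[A] a))
    {y : L} (hy : y ∈ engel A a) : ∃ n : ℕ, f ^ n • y ∈ H := by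
  haveI := hH.1
  obtain ⟨m, hm⟩ := (mem_engel_iff A a y).mp hy
  obtain ⟨n, hn⟩ := exists_pow_smul_eq_zero (f := qEnd H ha) (a := f)
    (fun p hp => qEnd_baseChange_injective H ha (fibreSubmodule_eq_engel H hH ha (hreg p hp)))
    (w := H.toSubmodule.mkQ y) (m := m) (by rw [qEnd_pow_mkQ, hm, map_zero])
  refine ⟨n, ?_⟩
  rw [← map_smul, Submodule.mkQ_apply, Submodule.Quotient.mk_eq_zero] at hn
  exact hn

lemma eq_engel_of_isCartanRel (hH : IsCartanRel H) (ha : a ∈ H) (hq : IsQuasiRegular A L a) :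
    H = engel A a := by
  refine le_antisymm (le_engel_of_isCartanRel H hH ha) fun y hy => ?_
  obtain ⟨n, hn⟩ := engel_smul_mem_of_isCartanRel H hH ha (f := 1) (fun p _ => hq p) hy
  simpa using hn

lemma surjective_of_isCartanRel (hH : IsCartanRel H) (ha : a ∈ H) (hq : IsQuasiRegular A L a)
    (y : L) : ∃ z : L, ⁅a, z⁆ - y ∈ H := by
  haveI := hH.1
  obtain ⟨w, hw⟩ := surjective_of_fibre_injective (f := qEnd H ha)
    (fun p => qEnd_baseChange_injective H ha (fibreSubmodule_eq_engel H hH ha (hq p)))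
    (H.toSubmodule.mkQ y)
  obtain ⟨z, rfl⟩ := H.toSubmodule.mkQ_surjective w
  exact ⟨z, (Submodule.Quotient.eq _).mp hw⟩

end

section

variable [Module.Finite A L] [Module.Projective A L]

omit [Module.Projective A L] in
lemma isCartanRel_engel (hq : IsQuasiRegular A L a)
    (hproj : Module.Projective A (L ⧸ (engel A a).toSubmodule))
    (hsurj : ∀ y : L, ∃ z : L, ⁅a, z⁆ - y ∈ engel A a) : IsCartanRel (engel A a) := by
  have ha := self_mem_engel A a
  set E := engel A a with hE
  haveI := hproj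
  haveI : Module.Finite A E := finite_of_projective_quotient E.toSubmodule
  have hg : Function.Bijective (qEnd E ha) := by
    refine ⟨?_, ?_⟩
    · rw [injective_iff_map_eq_zero]
      intro w hw
      obtain ⟨y, rfl⟩ := E.toSubmodule.mkQ_surjective w
      rw [qEnd_mkQ, Submodule.mkQ_apply, Submodule.Quotient.mk_eq_zero] at hw
      rw [Submodule.mkQ_apply, Submodule.Quotient.mk_eq_zero]
      exact mem_engel_of_lie_mem hw
    · intro w
      obtain ⟨y, rfl⟩ := E.toSubmodule.mkQ_surjective w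
      obtain ⟨z, hz⟩ := hsurj y
      exact ⟨E.toSubmodule.mkQ z, (Submodule.Quotient.eq _).mpr hz⟩
  have hfib : ∀ p : PrimeSpectrum A,
      fibreSubmodule p E = (engel κ[p] ((1 : κ[p]) ⊗ₜ[A] a)).toSubmodule := by
    intro p
    refine le_antisymm (fibreSubmodule_le_engel E le_rfl p) fun x hx => ?_
    obtain ⟨n, hn⟩ := (mem_engel_iff _ _ _).mp hx
    rw [mem_fibreSubmodule_iff]
    have hinj : Function.Injective ((qEnd E ha).baseChange κ[p]) := by
      rw [show (qEnd E ha).baseChange κ[p] =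
        ((LinearEquiv.ofBijective (qEnd E ha) hg).baseChange A κ[p] _ _).toLinearMap from rfl]
      exact LinearEquiv.injective _
    apply (show Function.Injective ⇑((qEnd E ha).baseChange κ[p] ^ n) by
      rw [Module.End.coe_pow]; exact hinj.iterate n)
    rw [map_zero]
    have : ∀ k, ((qEnd E ha).baseChange κ[p] ^ k) (E.toSubmodule.mkQ.baseChange κ[p] x) =
        E.toSubmodule.mkQ.baseChange κ[p] ((ad κ[p] _ ((1 : κ[p]) ⊗ₜ[A] a) ^ k) x) := by
      intro k
      induction k with
      | zero => rfl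
      | succ k ih =>
        simp only [pow_succ', Module.End.mul_apply, ih, qEnd_baseChange, ad_apply]
    rw [this, hn, map_zero]
  refine ⟨hproj, fun p => ⟨?_, ?_, ?_⟩⟩
  · let b := (1 : κ[p]) ⊗ₜ[A] a
    haveI : LieRing.IsNilpotent (engel κ[p] b) := isNilpotent_engel_of_isRegular (hq p)
    let ι : κ[p] ⊗[A] E →ₗ[κ[p]] κ[p] ⊗[A] L := E.toSubmodule.subtype.baseChange κ[p]
    have hι : ∀ x, ι x ∈ engel κ[p] b := fun x => by
      have : ι x ∈ fibreSubmodule p E := by
        rw [fibreSubmodule, ← range_baseChange_subtype]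
        exact ⟨x, rfl⟩
      rw [hfib] at this
      exact this
    have hlie : ∀ x y : κ[p] ⊗[A] E, ι ⁅x, y⁆ = ⁅ι x, ι y⁆ := fun x y =>
      (LieAlgebra.ExtendScalars.map (AlgHom.id A κ[p]) E.incl).map_lie x y
    let Φ : κ[p] ⊗[A] E →ₗ⁅κ[p]⁆ engel κ[p] b :=
      { ι.codRestrict (engel κ[p] b).toSubmodule hι with
        map_lie' := fun {x y} => Subtype.ext (hlie x y) }
    refine Function.Injective.lieAlgebra_isNilpotent (f := Φ) fun x y hxy => ?_
    exact baseChange_subtype_injective E.toSubmodule κ[p] (congr_arg Subtype.val hxy)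
  · intro x hx
    rw [hfib, LieSubalgebra.mem_toSubmodule]
    rw [← normalizer_engel κ[p] ((1 : κ[p]) ⊗ₜ[A] a), mem_normalizer_iff]
    intro y hy
    have := hx y (by rw [hfib]; exact hy)
    rw [hfib] at this
    exact this
  · rw [hfib]
    exact (LieAlgebra.isRegular_iff_finrank_engel_eq_rank _ _).mp (hq p)

/-- The fibrewise rank function. -/
noncomputable def fibreRank (A : Type u) [CommRing A] (L : Type u) [LieRing L] [LieAlgebra A L]
    [Module.Finite A L] (p : PrimeSpectrum A) : ℕ :=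
  LieAlgebra.rank κ[p] (κ[p] ⊗[A] L)

lemma isLocallyConstant_fibreRank (hH : IsCartanRel H) : IsLocallyConstant (fibreRank A L) := by
  haveI := hH.1
  haveI : Module.Finite A H.toSubmodule := finite_of_projective_quotient H.toSubmodule
  haveI : Module.Projective A H.toSubmodule := projective_of_projective_quotient H.toSubmodule
  haveI : Module.FinitePresentation A H.toSubmodule :=
    Module.finitePresentation_of_projective A _
  have : fibreRank A L = Module.rankAtStalk H.toSubmodule := by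
    funext p
    rw [Module.rankAtStalk_eq, fibreRank, ← (hH.2 p).2.2, fibreSubmodule,
      ← range_baseChange_subtype,
      LinearMap.finrank_range_of_inj (baseChange_subtype_injective _ _)]
  rw [this]
  exact Module.isLocallyConstant_rankAtStalk

omit [Module.Projective A L] in
lemma isLocallyConstant_fibreRank_descend {B : Type u} [CommRing B] [Algebra A B]
    [Module.FaithfullyFlat A B] (h : IsLocallyConstant (fibreRank B (B ⊗[A] L))) :
    IsLocallyConstant (fibreRank A L) := by
  have hq : Topology.IsQuotientMap (PrimeSpectrum.comap (algebraMap A B)) :=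
    PrimeSpectrum.isQuotientMap_of_generalizingMap PrimeSpectrum.comap_surjective_of_faithfullyFlat
      (Algebra.HasGoingDown.iff_generalizingMap_primeSpectrumComap.mp inferInstance)
  intro s
  rw [← hq.isOpen_preimage]
  have : PrimeSpectrum.comap (algebraMap A B) ⁻¹' (fibreRank A L ⁻¹' s) =
      fibreRank B (B ⊗[A] L) ⁻¹' s := by
    ext q
    simp only [Set.mem_preimage, fibreRank, rank_fibre_baseChange]
  rw [this]
  exact h s

omit [Module.Projective A L] in
lemma exists_basicOpen_of_isLocallyConstant (h : IsLocallyConstant (fibreRank A L))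
    (p : PrimeSpectrum A) : ∃ f : A, f ∉ p.asIdeal ∧ ∀ q : PrimeSpectrum A, f ∉ q.asIdeal →
      fibreRank A L q = fibreRank A L p := by
  obtain ⟨_, ⟨f, rfl⟩, hpf, hf⟩ := PrimeSpectrum.isTopologicalBasis_basic_opens.exists_subset_of_mem_open
    (show p ∈ fibreRank A L ⁻¹' {fibreRank A L p} from rfl) (h _)
  exact ⟨f, hpf, fun q hq => hf hq⟩

/-- The locus where an element is fibrewise regular is open, if the rank is locally constant. -/
lemma isOpen_regularLocus
    (hC0 : ∀ p : PrimeSpectrum A, ∃ f : A, f ∉ p.asIdeal ∧ ∀ q : PrimeSpectrum A, f ∉ q.asIdeal →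
        fibreRank A L q = fibreRank A L p) (a : L) :
    IsOpen {p : PrimeSpectrum A | LieAlgebra.IsRegular κ[p] ((1 : κ[p]) ⊗ₜ[A] a)} := by
  rw [isOpen_iff_forall_mem_open]
  intro p hp
  obtain ⟨f, hpf, hf⟩ := hC0 p
  haveI : Module.FinitePresentation A L := Module.finitePresentation_of_projective A L
  haveI : Module.Free (Localization.AtPrime p.asIdeal)
      (LocalizedModule p.asIdeal.primeCompl L) :=
    haveI : Module.Flat (Localization.AtPrime p.asIdeal)
        (LocalizedModule p.asIdeal.primeCompl L) :=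
      Module.Flat.of_linearEquiv (LocalizedModule.equivTensorProduct p.asIdeal.primeCompl L)
    Module.free_of_flat_of_isLocalRing
  obtain ⟨s, hs, hfree, -⟩ := Module.FinitePresentation.exists_free_localizedModule_powers
    p.asIdeal.primeCompl (LocalizedModule.mkLinearMap p.asIdeal.primeCompl L)
    (Localization.AtPrime p.asIdeal)
  let R := Localization.Away s
  haveI : Module.Free R (R ⊗[A] L) :=
    Module.Free.of_equiv (LocalizedModule.equivTensorProduct (Submonoid.powers s) L)
  let c : R := (ad R (R ⊗[A] L) ((1 : R) ⊗ₜ[A] a)).charpoly.coeff (fibreRank A L p)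
  let jm := PrimeSpectrum.localization_away_comap_range R s
  refine ⟨(PrimeSpectrum.basicOpen f : Set _) ∩
      PrimeSpectrum.comap (algebraMap A R) '' (PrimeSpectrum.basicOpen c : Set _), ?_, ?_, ?_⟩
  · rintro _ ⟨hqf, q, hq, rfl⟩
    rw [Set.mem_ofPred_eq, ← isRegular_fibre_baseChange, LieAlgebra.isRegular_def,
      rank_fibre_baseChange, charpoly_ad_baseChange, Polynomial.coeff_map, Ne,
      Ideal.algebraMap_residueField_eq_zero]
    have := hf _ hqf
    rw [fibreRank] at this
    rw [this]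
    exact hq
  · exact (PrimeSpectrum.basicOpen f).isOpen.inter
      ((PrimeSpectrum.localization_away_isOpenEmbedding R s).isOpenMap _
        (PrimeSpectrum.basicOpen c).isOpen)
  · obtain ⟨q, rfl⟩ : p ∈ Set.range (PrimeSpectrum.comap (algebraMap A R)) := by
      rw [jm]; exact hs
    refine ⟨hpf, q, ?_, rfl⟩
    rw [Set.mem_ofPred_eq, ← isRegular_fibre_baseChange, LieAlgebra.isRegular_def,
      rank_fibre_baseChange, charpoly_ad_baseChange, Polynomial.coeff_map, Ne,
      Ideal.algebraMap_residueField_eq_zero] at hp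
    exact hp

end

/-- Base change of an equivalence of Lie algebras. -/
noncomputable def baseChangeEquiv (K : Type*) [CommRing K] [Algebra A K] (u : L ≃ₗ⁅A⁆ L) :
    K ⊗[A] L ≃ₗ⁅K⁆ K ⊗[A] L :=
  { u.toLinearEquiv.baseChange A K L L with
    map_lie' := fun {x y} =>
      (LieAlgebra.ExtendScalars.map (AlgHom.id A K) u.toLieHom).map_lie x y }

lemma isQuasiRegular_equiv [Module.Finite A L] (u : L ≃ₗ⁅A⁆ L) {a : L} (ha : IsQuasiRegular A L a) :
    IsQuasiRegular A L (u a) := fun p =>
  (isRegular_equiv_iff (baseChangeEquiv κ[p] u) ((1 : κ[p]) ⊗ₜ[A] a)).mpr (ha p)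

end LieCartan
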